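import Cfsg.Agent.S0243
import Cfsg.Agent.S0813
import Cfsg.Agent.H183.OutPSL

/-!
# Prime divisors of `|Aut(L₃(4))|` (helper115; the proof is helper834's, `H834.Cov.prime_aut_l34`)
-/

set_option autoImplicit false

namespace Cfsg.Agent.H115.Rg

open Cfsg

/-- prime divisors of `|Aut(L_3(4))|` -/
theorem prime_aut_l34 {S : Type*} [Group S] {K : Type} [Field K] [Fintype K] (hK : Fintype.card K = 4)
    (e : S ≃* Matrix.ProjectiveSpecialLinearGroup (Fin 3) K) {s : ℕ} (hs : s.Prime)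
    (h : s ∣ Nat.card (MulAut S)) : s ≤ 7 := by
  have hf2 : Fact (Nat.Prime 2) := ⟨Nat.prime_two⟩
  have h1 := S0813.result (F := K) 2 2 (by norm_num) (by rw [hK]; norm_num) 3 (by norm_num) (by norm_num)
  rw [H183.OutPSL.card_pgl_eq (by norm_num), hK] at h1
  have hc := Cfsg.Agent.S0243.result (F := K) (q := 4) hK 3 (by norm_num)
  rw [Fin.prod_univ_three] at hc
  rw [Nat.card_congr (MulAut.congr e).toEquiv, h1] at h
  generalize Nat.card (Matrix.ProjectiveSpecialLinearGroup (Fin 3) K) = N at h hc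
  norm_num at hc h
  have hN : N = 20160 := by omega
  subst hN
  have h2 : s ∣ 2 ^ 8 * 3 ^ 3 * (5 * 7) := by norm_num at h ⊢; exact h
  rcases hs.dvd_mul.1 h2 with h3 | h3
  · rcases hs.dvd_mul.1 h3 with h4 | h4
    · have := Nat.le_of_dvd (by norm_num) (hs.dvd_of_dvd_pow h4); omega
    · have := Nat.le_of_dvd (by norm_num) (hs.dvd_of_dvd_pow h4); omega
  · rcases hs.dvd_mul.1 h3 with h4 | h4
    · have := Nat.le_of_dvd (by norm_num) h4; omega
    · exact Nat.le_of_dvd (by norm_num) h4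

end Cfsg.Agent.H115.Rg
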