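import Cfsg.Agent.H655.Rg.KExt
import Cfsg.Agent.H592.Rl.Classes9
import Cfsg.Agent.H834.Cov.Crit
import Cfsg.Agent.S5820

/-!
# S3691-T11: groups of degree eight over the field with `q²` elements (helper115)

* `Res18`, `Res21` : the primes of the residual groups in `SL_8(F)`, `SU_8(q)` (hypotheses; proved in `KExtEight`)
* `core8` : an irreducible subgroup of `GL_8(q²)` of order divisible by a primitive prime divisor of `q ^ 14 - 1` contains `SL_8(q²)` or
  the isometries of determinant one of a unitary form.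
-/

set_option autoImplicit false

namespace Cfsg.Agent.H115.Rg

open Module Cfsg Cfsg.Geo Cfsg.Agent.H918 Cfsg.Agent.H251 Cfsg.Agent.H834.Cov
open Cfsg.Agent.H251.GeoCard
open Cfsg.Agent.H278.Cov (Red)
open Cfsg.Agent.H951 (fx cm Inv inv_fx inv_cm)
open Cfsg.Agent.H884.El (PP)
open scoped MatrixGroups Matrix

section Inv

variable {E : Type*} [Field E] [Fintype E] {W : Type*} [AddCommGroup W] [Module E W] [FiniteDimensional E W]
  {x : Module.End E W} {e r : ℕ}

/-- primitive primes of codimension one -/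
theorem inv_cases_one (hr : PP (Nat.card E) e r) (he2 : 2 ≤ e) (hx : x ^ r = 1) (hx1 : x ≠ 1)
    (hW : finrank E W = e + 1) : finrank E (fx x) = 1 ∧ finrank E (cm x) = e ∧
    ∀ U : Submodule E W, Inv x U → U ≠ ⊥ → U ≠ ⊤ → U = fx x ∨ U = cm x := by
  have hr0 := H655.Rg.ne0 hr (by omega)
  have h1 := H655.Rg.dvd_cm hr (by omega) hx
  have h2 := H655.Rg.cm_pos hx1
  have h3 : finrank E (cm x) ≤ finrank E W := Submodule.finrank_le _
  have h4 : finrank E (cm x) = e := by
    obtain ⟨A, hA⟩ := h1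
    have hA1 : A = 1 := by
      have h4 : A < 2 := by
        by_contra hcon
        push Not at hcon
        have := Nat.mul_le_mul_left e hcon
        omega
      have h5 : A ≠ 0 := by rintro rfl; omega
      omega
    rw [hA, hA1, mul_one]
  have h5 := H951.finrank_fx_add_cm hr0 hx
  have h6 : finrank E (fx x) = 1 := by omega
  refine ⟨h6, h4, fun U hU h0 ht => ?_⟩
  have h7 := H951.finrank_inf_add hr0 hx hU
  have h8 := H655.Rg.dvd_inf hr (by omega) hx hU
  have h9 : finrank E ↥(U ⊓ cm x) ≤ finrank E (cm x) := Submodule.finrank_mono inf_le_right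
  have h10 : finrank E ↥(U ⊓ fx x) ≤ finrank E (fx x) := Submodule.finrank_mono inf_le_right
  have h11 : finrank E U ≠ 0 := fun h => h0 (Submodule.finrank_eq_zero.1 h)
  rcases Nat.eq_zero_or_pos (finrank E ↥(U ⊓ cm x)) with h12 | h12
  · left
    have h13 : finrank E ↥(U ⊓ fx x) = finrank E U := by omega
    have h14 : finrank E ↥(U ⊓ fx x) = finrank E (fx x) := by omega
    exact (Submodule.eq_of_le_of_finrank_eq inf_le_left h13).symm.trans (Submodule.eq_of_le_of_finrank_eq inf_le_right h14)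
  · right
    have h13 := Nat.le_of_dvd h12 h8
    have h14 : finrank E ↥(U ⊓ cm x) = finrank E (cm x) := by omega
    have h15 : cm x ≤ U := by
      rw [← Submodule.eq_of_le_of_finrank_eq inf_le_right h14]
      exact inf_le_left
    have h16 : finrank E U ≠ finrank E W := fun h => ht (Submodule.eq_top_of_finrank_eq h)
    have h17 : finrank E U ≤ finrank E W := Submodule.finrank_le _
    exact (Submodule.eq_of_le_of_finrank_eq h15 (by omega)).symm

end Inv

variable {E : Type} [Field E] [Fintype E] {L : Subgroup (GL (Fin 8) E)} {r : ℕ}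

omit [Fintype E] in
/-- a subspace which is mapped into itself by `b` -/
theorem mem_stab_of_map {b : GL (Fin 8) E} {W : Submodule E (Fin 8 → E)}
    (h : W.map (Matrix.toLin' (b : Matrix (Fin 8) (Fin 8) E)) = W) : b ∈ subspaceStabilizer W := by
  rw [mem_subspaceStabilizer]
  intro v
  have hb2 : ((b⁻¹ : GL (Fin 8) E) : Matrix (Fin 8) (Fin 8) E) * (b : Matrix (Fin 8) (Fin 8) E) = 1 := by
    rw [← Units.val_mul, inv_mul_cancel, Units.val_one]
  constructor
  · intro hv
    rw [← h]
    exact ⟨v, hv, Matrix.toLin'_apply _ _⟩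
  · intro hv
    rw [← h] at hv
    obtain ⟨w, hw, hwv⟩ := hv
    rw [Matrix.toLin'_apply] at hwv
    have h2 := congrArg (fun z => ((b⁻¹ : GL (Fin 8) E) : Matrix (Fin 8) (Fin 8) E) *ᵥ z) hwv
    simp only [Matrix.mulVec_mulVec, hb2, Matrix.one_mulVec] at h2
    rw [← h2]
    exact hw

/-- a subspace stabilised by all elements of order `r` -/
theorem red_of_stab (hr : PP (Nat.card E) 7 r) {x : GL (Fin 8) E} (hxL : x ∈ L) (hxr : x ^ r = 1) (hx1 : x ≠ 1)
    {W : Submodule E (Fin 8 → E)} (hW0 : W ≠ ⊥) (hW1 : W ≠ ⊤)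
    (h : ∀ y ∈ L, y ^ r = 1 → y ∈ subspaceStabilizer W) : Red L := by
  obtain ⟨hf1, hc1, hcases⟩ := inv_cases_one hr (by norm_num) (H655.Rg.toLin_pow hxr) (H655.Rg.toLin_ne hx1)
    (by rw [Module.finrank_fintype_fun_eq_card, Fintype.card_fin])
  have hinv : ∀ {y : GL (Fin 8) E}, y ∈ L → y ^ r = 1 → ∀ w ∈ W, (y : Matrix (Fin 8) (Fin 8) E) *ᵥ w ∈ W :=
    fun {y} hy hyr w hw => (mem_subspaceStabilizer.1 (h y hy hyr) w).1 hw
  refine ⟨W, hW0, hW1, fun b hb => mem_stab_of_map ?_⟩
  have hb1 : (b : Matrix (Fin 8) (Fin 8) E) * ((b⁻¹ : GL (Fin 8) E) : Matrix (Fin 8) (Fin 8) E) = 1 := by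
    rw [← Units.val_mul, mul_inv_cancel, Units.val_one]
  have hb2 : ((b⁻¹ : GL (Fin 8) E) : Matrix (Fin 8) (Fin 8) E) * (b : Matrix (Fin 8) (Fin 8) E) = 1 := by
    rw [← Units.val_mul, inv_mul_cancel, Units.val_one]
  set T := W.map (Matrix.toLin' (b : Matrix (Fin 8) (Fin 8) E)) with hT
  have hinj : Function.Injective (Matrix.toLin' (b : Matrix (Fin 8) (Fin 8) E)) := by
    intro v w hvw
    rw [Matrix.toLin'_apply, Matrix.toLin'_apply] at hvw
    have := congrArg (fun z => ((b⁻¹ : GL (Fin 8) E) : Matrix (Fin 8) (Fin 8) E) *ᵥ z) hvw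
    simpa only [Matrix.mulVec_mulVec, hb2, Matrix.one_mulVec] using this
  have hdim : finrank E T = finrank E W :=
    (Submodule.equivMapOfInjective _ hinj _).finrank_eq.symm
  have hT0 : T ≠ ⊥ := by
    intro h
    have h1 : finrank E T = 0 := by rw [h, finrank_bot]
    rw [hdim] at h1
    exact hW0 (Submodule.finrank_eq_zero.1 h1)
  have hT1 : T ≠ ⊤ := by
    intro h
    rw [h, finrank_top] at hdim
    exact hW1 (Submodule.eq_top_of_finrank_eq hdim.symm)
  have hcr : (b⁻¹ * x * b) ^ r = 1 := by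
    have h1 : b⁻¹ * x * b = b⁻¹ * x * b⁻¹⁻¹ := by rw [inv_inv]
    rw [h1, conj_pow, hxr, mul_one, mul_inv_cancel]
  have hcL : b⁻¹ * x * b ∈ L := L.mul_mem (L.mul_mem (L.inv_mem hb) hxL) hb
  have hTinv : Inv (Matrix.toLin' (x : Matrix (Fin 8) (Fin 8) E)) T := by
    rintro _ ⟨w, hw, rfl⟩
    refine ⟨((b⁻¹ * x * b : GL (Fin 8) E) : Matrix (Fin 8) (Fin 8) E) *ᵥ w, hinv hcL hcr w hw, ?_⟩
    rw [Matrix.toLin'_apply, Matrix.toLin'_apply, Matrix.toLin'_apply, Matrix.mulVec_mulVec, Matrix.mulVec_mulVec,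
      Units.val_mul, Units.val_mul, ← mul_assoc, ← mul_assoc, hb1, one_mul]
  have hWinv : Inv (Matrix.toLin' (x : Matrix (Fin 8) (Fin 8) E)) W := by
    intro w hw
    rw [Matrix.toLin'_apply]
    exact hinv hxL hxr w hw
  have h1 := hcases T hTinv hT0 hT1
  have h2 := hcases W hWinv hW0 hW1
  rcases h1 with h1 | h1 <;> rcases h2 with h2 | h2
  · rw [h1, ← h2]
  · exfalso
    rw [h1, h2, hf1, hc1] at hdim
    omega
  · exfalso
    rw [h1, h2, hf1, hc1] at hdim
    omega
  · rw [h1, ← h2]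

/-- the primes of the residual groups in `SL_8(E)` -/
def Res18 (E : Type) [Field E] [Fintype E] : Prop :=
  ∀ M : Subgroup (GL (Fin 8) E), IsMaximalIn (specialLinear (Fin 8) E) M → InLinearResidualClass M →
    ∀ r : ℕ, r.Prime → r ∣ Nat.card M → ¬ r ∣ Fintype.card E - 1 → r ≤ 7

/-- the primes of the residual groups in `SU_8(q)` -/
def Res21 (E : Type) [Field E] [Fintype E] : Prop :=
  ∀ (q : ℕ), Fintype.card E = q ^ 2 → ∀ H : Subgroup (GL (Fin 8) E), IsMaximalIn (SUg 8 E q) H →
    InUnitaryResidualClass H → ∀ r : ℕ, r.Prime → ∀ x ∈ H, orderOf x = r → ¬ r ∣ Nat.card E - 1 → r ≤ 7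

omit [Fintype E] in
theorem dvd_card_of_mem [Finite E] {H : Subgroup (GL (Fin 8) E)} {x : GL (Fin 8) E} (hx : x ∈ H) {s : ℕ}
    (h : s ∣ orderOf x) : s ∣ Nat.card H := by
  refine h.trans ?_
  rw [← Subgroup.orderOf_mk x hx]
  exact orderOf_dvd_natCard _

theorem not_dvd_pred {s m q : ℕ} (hF : Fintype.card E = q ^ 2) (hord : orderOf (-(q : ZMod s)) = m)
    (hmo : Odd m) (hm : 3 ≤ m) : ¬ s ∣ Nat.card E - 1 := by
  intro h
  have h1 : Div s (q ^ 2) 1 := div_one le_rfl (by rwa [← GeoU.nat_card_eq hF])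
  have h2 := GeoU.ord_le_of_div (Nat.one_le_pow _ _ (LieClassical.HermBasic.q_pos hF)) h1
  rw [GeoU.ord_sq_odd hord hmo] at h2
  omega

/-- maximal subgroups of `SU_8(q)` of order divisible by a primitive prime divisor of `q ^ 14 - 1` -/
theorem stab_of_max (hR : Res21 E) {q p f s : ℕ} (hp : p.Prime) (hf : 1 ≤ f) (hq : q = p ^ f) (hF : Fintype.card E = q ^ 2)
    (hs : s.Prime) (hsiff : ∀ k, s ∣ p ^ k - 1 ↔ 2 * 7 * f ∣ k) (hsord : orderOf (-((q : ℕ) : ZMod s)) = 7)
    (hs15 : 14 < s) : ∀ H, IsMaximalIn (SUg 8 E q) H → ∀ x ∈ H, orderOf x = s →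
      ∃ W : Submodule E (Fin 8 → E), finrank E W = 1 ∧ H ≤ subspaceStabilizer W := by
  intro H hH x hx hxo
  have hsH : s ∣ Nat.card H := dvd_card_of_mem hx (by rw [hxo])
  rcases Cfsg.Agent.S5820.result q hF H hH with h | h | h | h | h | h | h | h | h | h | h | h
  · obtain ⟨W, hW0, hW, rfl⟩ := h
    exact (GeoU.kill_ts hF hs hsord (by decide) (by norm_num) (by norm_num) hW0 hW
      (hsH.trans (Subgroup.card_dvd_of_le (inf_le_inf_left _ inf_le_left)))).elim
  · obtain ⟨W, hW0, hW, hW2, rfl⟩ := h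
    have := GeoU.kill_nd hF hs hsord (by decide) (by norm_num) (by norm_num) hW0 hW2
      (hsH.trans (Subgroup.card_dvd_of_le (inf_le_inf_left _ inf_le_left)))
    exact ⟨W, this.2, inf_le_left⟩
  · obtain ⟨D, hD, rfl⟩ := h
    exact (decomp_kill hF hs hsord (by decide) (by norm_num) (by omega) (by norm_num) hD.decomp
      (GeoU.dvd_left hsH)).elim
  · obtain ⟨-, D, hD, rfl⟩ := h
    exact (decomp_kill hF hs hsord (by decide) (by norm_num) (by omega) (by norm_num) hD.decomp
      (GeoU.dvd_left hsH)).elim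
  · obtain ⟨D, hD, rfl⟩ := h
    exact (decomp_kill hF hs hsord (by decide) (by norm_num) (by omega) (by norm_num) hD.decomp
      (GeoU.dvd_left hsH)).elim
  · obtain ⟨D, hD, -, rfl⟩ := h
    exact (decomp_kill hF hs hsord (by decide) (by norm_num) (by omega) (by norm_num) hD
      (GeoU.dvd_left hsH)).elim
  · obtain ⟨-, e, P, f₁, f₂, -, -, -, rfl⟩ := h
    exact (tensor_kill hF hs hsord (by decide) (by norm_num) e P (by norm_num) (GeoU.dvd_left hsH)).elim
  · obtain ⟨F₀, r', P, hr', hro, hcd, -, rfl⟩ := h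
    exact (subfield_kill hF hp hq hf hs hsiff hsord (by decide) (by norm_num) (by norm_num) hr'.two_le hcd
      (GeoU.dvd_left hsH)).elim
  · obtain ⟨F₀, P, ζ, hcd, -, -, -, -, rfl⟩ := h
    exact (subfield_kill hF hp hq hf hs hsiff hsord (by decide) (by norm_num) (by norm_num) le_rfl hcd
      (GeoU.dvd_left hsH)).elim
  · obtain ⟨-, F₀, P, hcd, -, rfl⟩ := h
    exact (subfield_kill hF hp hq hf hs hsiff hsord (by decide) (by norm_num) (by norm_num) le_rfl hcd
      (GeoU.dvd_left hsH)).elim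
  · obtain ⟨p', R, -, -, -, hR, habs, -, hRc, hRz, rfl⟩ := h
    refine (symp_kill (k := 3) hF hs hsord (by decide) (by norm_num) (by norm_num) (by omega) hR habs
      (Or.inr ⟨rfl, hRz, by rw [hRc]; norm_num⟩) (GeoU.dvd_left hsH)).elim
  · have := hR q hF H hH h s hs x hx hxo (not_dvd_pred hF hsord (by decide) (by norm_num))
    omega

/-- the order of `- q` modulo a primitive prime divisor of `q ^ 14 - 1` -/
theorem ord_neg {p f s : ℕ} (hp : p.Prime) (hf : 1 ≤ f) (h : PP p (2 * f * 7) s) :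
    (∀ k, s ∣ p ^ k - 1 ↔ 2 * 7 * f ∣ k) ∧ orderOf (-((p ^ f : ℕ) : ZMod s)) = 7 := by
  have hs := h.prime
  have := Fact.mk hs
  have hiff : ∀ k, s ∣ p ^ k - 1 ↔ 2 * 7 * f ∣ k := fun k => by
    rw [h.dvd_iff hp.one_lt.le, show 2 * f * 7 = 2 * 7 * f by ring]
  refine ⟨hiff, ?_⟩
  have hpord : ∀ k, (p : ZMod s) ^ k = 1 ↔ 2 * 7 * f ∣ k := by
    intro k
    rw [← orderOf_dvd_iff_pow_eq_one, ← Lib.Zsigmondy.dvd_pow_sub_one_iff hp.one_lt.le, hiff]
  have h1 : ((p ^ f : ℕ) : ZMod s) ^ 7 = -1 := by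
    have h2 : ((p ^ f : ℕ) : ZMod s) ^ 7 * ((p ^ f : ℕ) : ZMod s) ^ 7 = 1 := by
      push_cast
      rw [← pow_add, ← pow_mul, hpord]
      exact ⟨1, by ring⟩
    have h3 : ((p ^ f : ℕ) : ZMod s) ^ 7 ≠ 1 := by
      push_cast
      rw [← pow_mul, Ne, hpord]
      intro h4
      have := Nat.le_of_dvd (by positivity) h4
      omega
    rcases mul_self_eq_one_iff.1 h2 with h4 | h4
    · exact absurd h4 h3
    · exact h4
  have h5 : (-((p ^ f : ℕ) : ZMod s)) ^ 7 = 1 := by
    rw [Odd.neg_pow (by decide), h1, neg_neg]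
  have h6 := orderOf_dvd_of_pow_eq_one h5
  rcases (Nat.dvd_prime (by norm_num : Nat.Prime 7)).1 h6 with h7 | h7
  · exfalso
    rw [orderOf_eq_one_iff] at h7
    have h8 : (p : ZMod s) ^ (f * 2) = 1 := by
      have h9 : (-((p ^ f : ℕ) : ZMod s)) ^ 2 = 1 := by rw [h7, one_pow]
      rw [neg_sq] at h9
      push_cast at h9
      rw [pow_mul]
      exact h9
    rw [hpord] at h8
    have := Nat.le_of_dvd (by omega) h8
    omega
  · exact h7

/-- a unit of `E` of order dividing `r`, where `r ∤ |E| - 1` -/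
theorem unit_eq_one (hr : r.Prime) (hd : ¬ r ∣ Fintype.card E - 1) {c : Eˣ} (hc : c ^ r = 1) : c = 1 := by
  classical
  rcases (Nat.dvd_prime hr).1 (orderOf_dvd_of_pow_eq_one hc) with h | h
  · exact orderOf_eq_one_iff.1 h
  · exfalso
    apply hd
    rw [← Fintype.card_units, ← h]
    exact orderOf_dvd_card

/-- irreducible groups of degree eight -/
theorem core8 (h18 : Res18 E) (h21 : Res21 E) {p f : ℕ} (hp : p.Prime) (hf : 1 ≤ f) (hE : Fintype.card E = p ^ (2 * f)) (hr : PP p (2 * f * 7) r)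
    (hirr : ¬ Red L) {x : GL (Fin 8) E} (hxL : x ∈ L) (hxr : x ^ r = 1) (hx1 : x ≠ 1) :
    specialLinear (Fin 8) E ≤ L ∨
    ∃ (τ : E ≃+* E) (g : (Fin 8 → E) → (Fin 8 → E) → E), IsUnitaryForm τ g ∧
      ∀ y : GL (Fin 8) E, FixesForm {(y : Matrix (Fin 8) (Fin 8) E)} g → Matrix.GeneralLinearGroup.det y = 1 → y ∈ L := by
  classical
  have hne : Nonempty (Fin 8) := ⟨0⟩
  have hrp := hr.prime
  have := Fact.mk hrp
  have hrE : PP (Nat.card E) 7 r := by
    rw [Nat.card_eq_fintype_card, hE]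
    exact hr.of_pow (by omega)
  have hr15 : 14 < r := by
    have h1 := hr.lt (by omega)
    omega
  have hd : ¬ r ∣ Fintype.card E - 1 := by
    intro h
    have h1 := (hrE.dvd_iff Nat.card_pos 1).1 (by rw [pow_one, Nat.card_eq_fintype_card]; exact h)
    omega
  have hord : ∀ {y : GL (Fin 8) E}, y ^ r = 1 → y ≠ 1 → orderOf y = r := fun {y} hy hy1 => orderOf_eq_prime hy hy1
  have hdet : ∀ {y : GL (Fin 8) E}, y ^ r = 1 → Matrix.GeneralLinearGroup.det y = 1 := fun {y} hy => by
    apply unit_eq_one hrp hd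
    rw [← map_pow, hy, map_one]
  have hsl : ∀ {y : GL (Fin 8) E}, y ^ r = 1 → y ∈ specialLinear (Fin 8) E := fun {y} hy =>
    MonoidHom.mem_ker.2 (hdet hy)
  by_cases hne' : specialLinear (Fin 8) E ≤ L ⊓ specialLinear (Fin 8) E
  · exact Or.inl (hne'.trans inf_le_left)
  right
  have hud : r ∣ Nat.card ↥(L ⊓ specialLinear (Fin 8) E) :=
    dvd_card_of_mem (Subgroup.mem_inf.2 ⟨hxL, hsl hxr⟩) (by rw [hord hxr hx1])
  rcases H592.Rl.classes9 (n := 8) (k := 7) (f := 2 * f) (by norm_num) (by norm_num) (by norm_num) (by norm_num) hp hE hrp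
    hr.ord inf_le_right hne' hud with ⟨-, W, hW, hle⟩ | h | ⟨-, h, -⟩ | ⟨h, -⟩ | ⟨M, hM, hRM, hres⟩
  · -- subspaces
    exfalso
    apply hirr
    refine red_of_stab hrE hxL hxr hx1 (W := W) ?_ ?_ fun y hy hyr => hle ⟨hy, hsl hyr⟩
    · rintro rfl
      rw [finrank_bot] at hW
      omega
    · rintro rfl
      rw [finrank_top, Module.finrank_fintype_fun_eq_card, Fintype.card_fin] at hW
      omega
  · rcases h with ⟨s, K, hs, hs8, hs7, -⟩ | ⟨h, -⟩ | ⟨h, -⟩ | ⟨-, σ, g, hg, hle⟩
    · exfalso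
      rw [Fintype.card_fin] at hs8
      have h1 := Nat.dvd_gcd hs8 hs7
      norm_num at h1
      exact hs.one_lt.ne' h1
    · exact absurd h (by decide)
    · exact absurd h (by decide)
    · -- unitary forms
      refine ⟨σ, g, hg, ?_⟩
      obtain ⟨q, hq, hσ⟩ := H895.SLT.unitary_sigma hg.involutive hg.ne_refl
      have hqp : q = p ^ f := Nat.pow_left_injective (by norm_num : (2 : ℕ) ≠ 0) (by
        change q ^ 2 = (p ^ f) ^ 2
        rw [← hq, hE, ← pow_mul, mul_comm])
      have hgp : IsUnitaryFormPow q g :=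
        ⟨hg.add_left, hg.smul_left, fun v w => by rw [← hσ]; exact hg.herm v w, hg.nondegenerate⟩
      obtain ⟨P, hP⟩ := H956.UnitSim.exists_frame hq hgp
      have hPP : (P : Matrix (Fin 8) (Fin 8) E) * ((P⁻¹ : GL (Fin 8) E) : Matrix (Fin 8) (Fin 8) E) = 1 := by
        rw [← Units.val_mul, mul_inv_cancel, Units.val_one]
      -- the isometries
      have hconj : ∀ y : GL (Fin 8) E, FixesForm {(y : Matrix (Fin 8) (Fin 8) E)} g →
          Matrix.GeneralLinearGroup.det y = 1 → P⁻¹ * y * P ∈ SUg 8 E q := by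
        intro y hy hy1
        rw [mem_SUg]
        constructor
        · intro u v
          rw [← hP, ← hP, Matrix.mulVec_mulVec, Matrix.mulVec_mulVec, Units.val_mul, Units.val_mul, ← mul_assoc,
            ← mul_assoc, hPP, one_mul, ← Matrix.mulVec_mulVec, ← Matrix.mulVec_mulVec]
          exact hy _ rfl _ _
        · have h1 : Matrix.GeneralLinearGroup.det (P⁻¹ * y * P) = 1 := by
            rw [map_mul, map_mul, hy1, mul_one, ← map_mul, inv_mul_cancel, map_one]
          have h2 := congrArg Units.val h1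
          rw [Matrix.GeneralLinearGroup.val_det_apply, Units.val_one] at h2
          exact h2
      by_cases hSU : SUg 8 E q ≤ L.comap (MulAut.conj P).toMonoidHom
      · intro y hy hy1
        have h1 := hSU (hconj y hy hy1)
        rw [Subgroup.mem_comap] at h1
        change P * (P⁻¹ * y * P) * P⁻¹ ∈ L at h1
        have h2 : P * (P⁻¹ * y * P) * P⁻¹ = y := by group
        rwa [h2] at h1
      · exfalso
        obtain ⟨hiff, hneg⟩ := ord_neg hp hf hr
        have hlt : L.comap (MulAut.conj P).toMonoidHom ⊓ SUg 8 E q < SUg 8 E q :=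
          lt_of_le_not_ge inf_le_right fun h => hSU (h.trans inf_le_left)
        obtain ⟨M, hM, hRM⟩ := H905.exists_isMaximalIn_of_lt hlt
        have hfix : ∀ y ∈ L, y ^ r = 1 → P⁻¹ * y * P ∈ M := by
          intro y hy hyr
          rcases eq_or_ne y 1 with rfl | hy1
          · rw [mul_one, inv_mul_cancel]
            exact M.one_mem
          · obtain ⟨c, hc⟩ := hle ⟨hy, hsl hyr⟩
            have hPd : H728.DghpNum.Ppd (Fintype.card E) 7 r := by
              refine ⟨hrp, ?_, ?_⟩
              · rw [← Nat.card_eq_fintype_card]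
                exact hrE.ord
              · rw [← Nat.card_eq_fintype_card]
                exact hrE.not_dvd (by norm_num)
            have hc1 := H304.Ppd.multiplier_eq_one hPd (by norm_num) (hord hyr hy1)
              (H304.Ppd.exists_ne_zero hg.nondegenerate) hc
            apply hRM
            refine Subgroup.mem_inf.2 ⟨?_, hconj y ?_ (hdet hyr)⟩
            · rw [Subgroup.mem_comap]
              change P * (P⁻¹ * y * P) * P⁻¹ ∈ L
              have h2 : P * (P⁻¹ * y * P) * P⁻¹ = y := by group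
              rwa [h2]
            · rintro _ rfl u v
              rw [hc, hc1, Units.val_one, one_mul]
        have hxo : orderOf (P⁻¹ * x * P) = r := by
          have h1 : P⁻¹ * x * P = MulAut.conj P⁻¹ x := by
            rw [MulAut.conj_apply, inv_inv]
          rw [h1, MulEquiv.orderOf_eq]
          exact hord hxr hx1
        obtain ⟨W, hW1, hMW⟩ := stab_of_max h21 hp hf hqp hq hrp hiff (by rw [hqp]; exact hneg) hr15 M hM _
          (hfix x hxL hxr) hxo
        apply hirr
        have hPi : ((P⁻¹ : GL (Fin 8) E) : Matrix (Fin 8) (Fin 8) E) * (P : Matrix (Fin 8) (Fin 8) E) = 1 := by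
          rw [← Units.val_mul, inv_mul_cancel, Units.val_one]
        have hinj : Function.Injective (Matrix.toLin' (P : Matrix (Fin 8) (Fin 8) E)) := by
          intro v w hvw
          rw [Matrix.toLin'_apply, Matrix.toLin'_apply] at hvw
          have := congrArg (fun z => ((P⁻¹ : GL (Fin 8) E) : Matrix (Fin 8) (Fin 8) E) *ᵥ z) hvw
          simpa only [Matrix.mulVec_mulVec, hPi, Matrix.one_mulVec] using this
        have hdim : finrank E (W.map (Matrix.toLin' (P : Matrix (Fin 8) (Fin 8) E))) = 1 := by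
          rw [← hW1]
          exact (Submodule.equivMapOfInjective _ hinj _).finrank_eq.symm
        refine red_of_stab hrE hxL hxr hx1 (W := W.map (Matrix.toLin' (P : Matrix (Fin 8) (Fin 8) E))) ?_ ?_ ?_
        · intro h
          rw [h, finrank_bot] at hdim
          omega
        · intro h
          rw [h, finrank_top, Module.finrank_fintype_fun_eq_card, Fintype.card_fin] at hdim
          omega
        · intro y hy hyr
          have h1 := mem_subspaceStabilizer.1 (hMW (hfix y hy hyr))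
          rw [mem_subspaceStabilizer]
          intro v
          have hiffW : ∀ u : Fin 8 → E, u ∈ W.map (Matrix.toLin' (P : Matrix (Fin 8) (Fin 8) E)) ↔
              ((P⁻¹ : GL (Fin 8) E) : Matrix (Fin 8) (Fin 8) E) *ᵥ u ∈ W := by
            intro u
            constructor
            · rintro ⟨w, hw, rfl⟩
              rw [Matrix.toLin'_apply, Matrix.mulVec_mulVec, hPi, Matrix.one_mulVec]
              exact hw
            · intro hu
              refine ⟨_, hu, ?_⟩
              rw [Matrix.toLin'_apply, Matrix.mulVec_mulVec, hPP, Matrix.one_mulVec]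
          rw [hiffW, hiffW, h1, Units.val_mul, Units.val_mul, Matrix.mulVec_mulVec, Matrix.mulVec_mulVec, mul_assoc,
            mul_assoc, hPP, mul_one]
  · -- `8` is not a prime
    exfalso
    rw [h] at hrp
    exact absurd hrp (by norm_num)
  · exact absurd h (by norm_num)
  · -- residual groups
    exfalso
    have h1 := h18 M hM hres r hrp (hud.trans (Subgroup.card_dvd_of_le hRM)) hd
    omega

end Cfsg.Agent.H115.Rg
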