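import Cfsg.Agent.H115.Rg.KE8Core

/-!
# S3691-T11: groups of isometries normalising a quadratic field, dimension 16 (helper115)

`kext_eight_of` : `kext_eight` from the primes of the residual groups (`Res18`, `Res21`).
-/

set_option autoImplicit false

namespace Cfsg.Agent.H115.Rg

open Module Cfsg Cfsg.Geo Cfsg.Agent.LieClassical.OrthCore Cfsg.Agent.LieClassical.OrthTrans
  Cfsg.Agent.H955 Cfsg.Agent.H954.TSing Cfsg.Agent.H884.El Cfsg.Agent.H278.Cov Cfsg.Agent.H449.Reg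
open Cfsg.Agent.H951 (fx cm Inv)
open Cfsg.Agent.H655.Rg

universe v

variable {F : Type} [Field F] [Fintype F] {V : Type v} [AddCommGroup V] [Module F V]
  {Q : QuadraticForm F V} {A : Subgroup (V ≃ₗ[F] V)}

theorem kext_eight_of (h18 : ∀ (E : Type) [Field E] [Fintype E], Res18 E) (h21 : ∀ (E : Type) [Field E] [Fintype E], Res21 E)
    {p f r a : ℕ} (hn : finrank F V = 16) (hQ : Nondeg Q) (hA : A ≤ O Q)
    (hirr : ∀ W : Submodule F V, (∀ a ∈ A, ∀ w ∈ W, a w ∈ W) → W = ⊥ ∨ W = ⊤) (hK : AExt 2 A)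
    (hp : p.Prime) (hF : Fintype.card F = p ^ f) (hr : PP p (f * 14) r)
    {g : V ≃ₗ[F] V} (hg : g ∈ A) (ho : orderOf g = r ^ a) (hbig : 29 < r ^ a) (hdvd : r ^ a ∣ (p ^ f) ^ 14 - 1) :
    (∀ t, PP (p ^ f) 12 t → t ∣ Nat.card A) ∨ (∀ t, PP (p ^ f) 10 t → t ∣ Nat.card A) := by
  have _ := hQ
  have _ := hA
  have _ := hdvd
  obtain ⟨n, φ₀, K, -, hKf, hle⟩ := hK
  have hn' := finrank_of_equiv φ₀
  have hn2 : n = 2 * 8 := by omega
  obtain ⟨E, iE, iFE, hE, ⟨φ⟩⟩ := exists_fr hKf hn2 (by norm_num) (by omega)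
  have hf : 1 ≤ f := by
    rcases Nat.eq_zero_or_pos f with h | h
    · exfalso
      rw [h, pow_zero] at hF
      have := Fintype.one_lt_card (α := F)
      omega
    · exact h
  set B := A.map (cj φ₀).toMonoidHom with hB
  have hcard : Nat.card B = Nat.card A := Subgroup.card_map_of_injective (cj φ₀).injective
  have hgB : cj φ₀ g ∈ B := ⟨g, hg, rfl⟩
  have hgo : orderOf (cj φ₀ g) = r ^ a := by rw [MulEquiv.orderOf_eq, ho]
  have hne : Nonempty (Fin n) := ⟨⟨0, by omega⟩⟩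
  have hr' : PP p (2 * f * 7) r := by
    rw [show 2 * f * 7 = f * 14 by ring]
    exact hr
  have hrF : PP (Nat.card F) 14 r := by
    rw [Nat.card_eq_fintype_card, hF]
    exact PP.of_pow hr hf
  have hr2 : r ≠ 2 := by
    have := hrF.lt (by omega)
    omega
  obtain ⟨x, hxB, hxr, hx1, k, hk⟩ := exists_prime_pow hgB hr.prime hgo (by omega)
  have hco : Nat.Coprime (orderOf x) 2 :=
    Nat.Coprime.coprime_dvd_left (orderOf_dvd_of_pow_eq_one hxr) ((Nat.coprime_primes hr.prime Nat.prime_two).2 hr2)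
  have hxz := mem_cz hKf hle hxB hco
  have hred : ¬ Red (low φ B) := not_red_even φ hKf hle (e := 14) (by omega) ⟨7, by omega⟩ (by omega) hxB
    hxz hxr hx1 hrF (irr_mat φ₀ hirr)
  have hdv : ∀ t, t ∣ Nat.card (low φ B) → t ∣ Nat.card A := fun t ht => hcard ▸ ht.trans (card_low_dvd φ B)
  have hPE : ∀ {t j : ℕ}, PP (p ^ f) (2 * j) t → PP (Nat.card E) j t := fun {t j} ht => by
    rw [Nat.card_eq_fintype_card, hE, hF]
    exact PP.of_pow ht (by norm_num)
  rcases core8 (h18 E) (h21 E) hp hf (by rw [hE, hF, ← pow_mul, mul_comm]) hr' hred (mem_low φ hxz hxB)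
    (by rw [← map_pow]; exact (congrArg _ (Subtype.ext hxr)).trans (map_one _))
    (fun h => hx1 (congrArg Subtype.val (lift_injective φ (h.trans (map_one _).symm)))) with h | ⟨τ, f', hf', h⟩
  · left
    intro t ht
    exact hdv t (sl_dvd (hPE (j := 6) ht) (by omega) (by omega) h)
  · right
    intro t ht
    exact hdv t (su_dvd (q := p ^ f) (j := 5) (by rw [hE, hF]) hf' ht (by decide) (by omega) (by omega) h)

end Cfsg.Agent.H115.Rg
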