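import Cfsg.Agent.H115.Rg.KE8Main
import Cfsg.Agent.H115.Rg.AutL34
import Cfsg.Agent.H788.Rl.Core
import Cfsg.Agent.S5818
import Cfsg.Agent.S5821

/-!
# S3691-T11: `kext_eight` (helper115)

Groups of isometries normalising a quadratic field, dimension 16.
-/

set_option autoImplicit false

namespace Cfsg.Agent.H115.Rg

open Module Cfsg Cfsg.Geo Cfsg.Agent.LieClassical.OrthCore Cfsg.Agent.LieClassical.OrthTrans
  Cfsg.Agent.H955 Cfsg.Agent.H954.TSing Cfsg.Agent.H884.El Cfsg.Agent.H278.Cov Cfsg.Agent.H449.Reg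
open Cfsg.Agent.H951 (fx cm Inv)

universe v

section Res

variable (E : Type) [Field E] [Fintype E]

theorem res18 : Res18 E := by
  intro M hM hres r hr hd hrE
  have hne : Nonempty (Fin 8) := ⟨0⟩
  obtain ⟨P, p', hP, -, -, ⟨K, _, _, hK, ⟨e⟩⟩, -⟩ := S5818.result M hM hres
  rcases H788.Rl.prime_dvd_of_equiv hP hM.1.le hr hd e with h | h
  · exact absurd h hrE
  · exact prime_aut_l34 hK (MulEquiv.refl _) hr h

theorem res21 : Res21 E := by
  intro q hF H hH hres r hr x hx hxo hrE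
  obtain ⟨P, hP, -, -, K, i1, i2, hK, ⟨e⟩⟩ := S5821.result q hF H hH hres
  have h1 := H834.Cov.core_dvd (by norm_num) hP hr hrE hx hxo
  exact prime_aut_l34 hK e hr h1

end Res

variable {F : Type} [Field F] [Fintype F] {V : Type v} [AddCommGroup V] [Module F V] [FiniteDimensional F V]
  {Q : QuadraticForm F V} {A : Subgroup (V ≃ₗ[F] V)}

omit [FiniteDimensional F V] in
/-- **(T11)** groups normalising a quadratic field, dimension 16 -/
theorem kext_eight {p f r a : ℕ} (hn : finrank F V = 16) (hQ : Nondeg Q) (hA : A ≤ O Q)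
    (hirr : ∀ W : Submodule F V, (∀ a ∈ A, ∀ w ∈ W, a w ∈ W) → W = ⊥ ∨ W = ⊤) (hK : AExt 2 A)
    (hp : p.Prime) (hF : Fintype.card F = p ^ f) (hr : PP p (f * 14) r)
    {g : V ≃ₗ[F] V} (hg : g ∈ A) (ho : orderOf g = r ^ a) (hbig : 29 < r ^ a) (hdvd : r ^ a ∣ (p ^ f) ^ 14 - 1) :
    (∀ t, PP (p ^ f) 12 t → t ∣ Nat.card A) ∨ (∀ t, PP (p ^ f) 10 t → t ∣ Nat.card A) :=
  kext_eight_of (fun E _ _ => res18 E) (fun E _ _ => res21 E) hn hQ hA hirr hK hp hF hr hg ho hbig hdvd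

end Cfsg.Agent.H115.Rg
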